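import Mathlib

/-!
Extreme cyclotomic numbers: the counts `#{x | x ^ e = u, (1 + x) ^ e = w}` cannot all be at least
(or all be at most) one constant when the total slack is below `t - 2`.
-/

set_option autoImplicit false
set_option linter.style.haveILetI false

namespace Cfsg.Agent.H20.Cyclo

open Finset Polynomial

variable {p : ℕ} [Fact p.Prime]

/-- The number of `x` with `x ^ e = u` and `(1 + x) ^ e = w`. -/
noncomputable def cnt (e : ℕ) (u w : ZMod p) : ℕ :=
  (univ.filter fun x : ZMod p => x ^ e = u ∧ (1 + x) ^ e = w).card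

/-- The `t`-th roots of unity. -/
noncomputable def roots (t : ℕ) : Finset (ZMod p) := univ.filter fun u => u ^ t = 1

/-- Power sums as polynomials in `u`. -/
noncomputable def pw (s : ZMod p) (e i : ℕ) : (ZMod p)[X] :=
  C (s * e) * ∑ m ∈ range (i + 1), C (((e * i).choose (e * m) : ℕ) : ZMod p) * X ^ m

/-- Newton's recursion for the elementary symmetric functions. -/
noncomputable def el (s : ZMod p) (e : ℕ) : ℕ → (ZMod p)[X]
  | 0 => 1
  | m + 1 => C (((m + 1 : ℕ) : ZMod p)⁻¹) * ((-1) ^ m *
      ∑ i : Fin (m + 1), (-1) ^ (i : ℕ) * el s e i * pw s e (m + 1 - i))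

theorem natDegree_pw (s : ZMod p) (e i : ℕ) : (pw s e i).natDegree ≤ i := by
  unfold pw
  refine natDegree_C_mul_le _ _ |>.trans (natDegree_sum_le_of_forall_le _ _ fun m hm => ?_)
  refine (natDegree_C_mul_le _ _).trans ?_
  rw [natDegree_X_pow]
  exact Nat.lt_succ_iff.1 (mem_range.1 hm)

theorem natDegree_el (s : ZMod p) (e : ℕ) : ∀ m, (el s e m).natDegree ≤ m
  | 0 => by simp [el]
  | m + 1 => by
    rw [el]
    refine (natDegree_C_mul_le _ _).trans ?_
    refine natDegree_mul_le.trans ?_
    have h0 : ((-1 : (ZMod p)[X]) ^ m).natDegree = 0 := by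
      rw [← map_one C, ← map_neg C, ← C_pow, natDegree_C]
    rw [h0, zero_add]
    refine natDegree_sum_le_of_forall_le _ _ fun i _ => ?_
    refine natDegree_mul_le.trans ?_
    have h1 : ((-1 : (ZMod p)[X]) ^ (i : ℕ) * el s e i).natDegree ≤ (i : ℕ) := by
      refine natDegree_mul_le.trans ?_
      rw [← map_one C, ← map_neg C, ← C_pow, natDegree_C, zero_add]
      exact natDegree_el s e i
    have h2 := natDegree_pw s e (m + 1 - i)
    have := i.2
    omega

/-- The recursion computes the elementary symmetric functions of any tuple with these power sums. -/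
theorem eval_el {n : ℕ} (f : Fin n → ZMod p) (s : ZMod p) (e : ℕ) (u : ZMod p) :
    ∀ k, k < p → (∀ i, 1 ≤ i → i ≤ k → ∑ a, f a ^ i = (pw s e i).eval u) →
      (el s e k).eval u = MvPolynomial.aeval f (MvPolynomial.esymm (Fin n) (ZMod p) k) := by
  intro k
  induction k using Nat.strong_induction_on with
  | _ k ih =>
    intro hk hps
    cases k with
    | zero => simp [el]
    | succ m =>
      have hne : ((m + 1 : ℕ) : ZMod p) ≠ 0 := by
        rw [Ne, ZMod.natCast_eq_zero_iff]
        exact fun h => absurd (Nat.le_of_dvd (Nat.succ_pos m) h) (by omega)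
      have key := congrArg (MvPolynomial.aeval f)
        (MvPolynomial.mul_esymm_eq_sum (Fin n) (ZMod p) (m + 1))
      simp only [map_mul, map_natCast, map_pow, map_neg, map_one, map_sum] at key
      rw [el, eval_mul, eval_C, inv_mul_eq_iff_eq_mul₀ hne, key, eval_mul, eval_pow, eval_neg,
        eval_one, eval_finsetSum, show (m + 1 + 1 : ℕ) = m + 2 by rfl,
        show ((-1 : ZMod p)) ^ (m + 2) = (-1) ^ m by rw [pow_add]; simp]
      congr 1
      refine Finset.sum_bij (fun (i : Fin (m + 1)) _ => ((i : ℕ), m + 1 - (i : ℕ))) ?_ ?_ ?_ ?_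
      · intro i _
        have := i.2
        simp only [mem_filter, Finset.HasAntidiagonal.mem_antidiagonal]
        omega
      · intro a _ b _ hab
        exact Fin.ext (Prod.mk.inj hab).1
      · rintro ⟨a, b⟩ hab
        simp only [mem_filter, Finset.HasAntidiagonal.mem_antidiagonal] at hab
        exact ⟨⟨a, hab.2⟩, mem_univ _, by simp; omega⟩
      · intro i _
        have := i.2
        simp only [eval_mul, eval_pow, eval_neg, eval_one]
        rw [ih i (by omega) (by omega) fun j h1 h2 => hps j h1 (by omega),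
          ← hps (m + 1 - i) (by omega) (by omega)]
        simp [MvPolynomial.psum, map_sum]

/-- The power sums of `(1 + x) ^ e` over `x ^ e = u`. -/
theorem sum_pow (e t : ℕ) (ht : e * t = p - 1) (u : ZMod p) (hu : u ^ t = 1) (i : ℕ) :
    ∑ x ∈ univ.filter (fun x : ZMod p => x ^ e = u), ((1 + x) ^ e) ^ i =
      (pw 1 e i).eval u := by
  classical
  have hp1 : 0 < p - 1 := Nat.sub_pos_of_lt (Fact.out : p.Prime).one_lt
  have he : 0 < e := Nat.pos_of_ne_zero fun h => by simp [h] at ht; omega
  have ht0 : t ≠ 0 := fun h => by simp [h] at ht; omega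
  have hu0 : u ≠ 0 := fun h => by rw [h, zero_pow ht0] at hu; exact zero_ne_one hu
  obtain ⟨g, hg⟩ := IsCyclic.exists_generator (α := (ZMod p)ˣ)
  have hgo : orderOf g = p - 1 := by
    rw [orderOf_eq_card_of_forall_mem_zpowers hg, Nat.card_eq_fintype_card, ZMod.card_units]
  have hg' : IsPrimitiveRoot (g : ZMod p) (p - 1) :=
    IsPrimitiveRoot.coe_units_iff.2 (hgo ▸ IsPrimitiveRoot.orderOf g)
  set ζ : ZMod p := (g : ZMod p) ^ t with hζ
  have hζe : IsPrimitiveRoot ζ e := hg'.pow hp1 (by rw [← ht, mul_comm])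
  obtain ⟨a, ha⟩ : ∃ a : ZMod p, a ^ e = u := by
    obtain ⟨l, hl⟩ := mem_powers_iff_mem_zpowers.2 (hg (Units.mk0 u hu0))
    have hl' : (g : ZMod p) ^ l = u := by
      have := congrArg Units.val hl
      simpa using this
    have hdvd : p - 1 ∣ l * t := by
      refine hg'.pow_eq_one_iff_dvd _ |>.1 ?_
      rw [pow_mul, hl', hu]
    rw [← ht] at hdvd
    obtain ⟨q, hq⟩ := Nat.dvd_of_mul_dvd_mul_right (Nat.pos_of_ne_zero ht0) hdvd
    exact ⟨(g : ZMod p) ^ q, by rw [← pow_mul, mul_comm, ← hq, hl']⟩
  have ha0 : a ≠ 0 := fun h => hu0 (by rw [← ha, h, zero_pow he.ne'])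
  have hbij : ∑ x ∈ univ.filter (fun x : ZMod p => x ^ e = u), ((1 + x) ^ e) ^ i =
      ∑ k ∈ range e, ((1 + ζ ^ k * a) ^ e) ^ i := by
    refine (Finset.sum_bij (fun k _ => ζ ^ k * a) ?_ ?_ ?_ (fun _ _ => rfl)).symm
    · intro k _
      refine mem_filter.2 ⟨mem_univ _, ?_⟩
      rw [mul_pow, ← pow_mul, mul_comm k, pow_mul, hζe.pow_eq_one, one_pow, one_mul, ha]
    · intro k hk l hl h
      exact hζe.pow_inj (mem_range.1 hk) (mem_range.1 hl) (mul_right_cancel₀ ha0 h)
    · intro x hx
      have h1 : (x * a⁻¹) ^ e = 1 := by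
        rw [mul_pow, inv_pow, (mem_filter.1 hx).2, ha, mul_inv_cancel₀ hu0]
      haveI : NeZero e := ⟨he.ne'⟩
      obtain ⟨k, hk, hk'⟩ := hζe.eq_pow_of_pow_eq_one h1
      exact ⟨k, mem_range.2 hk, by rw [hk', inv_mul_cancel_right₀ ha0]⟩
  have hgeo : ∀ l : ℕ, ∑ k ∈ range e, (ζ ^ k) ^ l = if e ∣ l then (e : ZMod p) else 0 := by
    intro l
    simp only [← pow_mul, mul_comm _ l]
    simp only [pow_mul]
    split_ifs with hl
    · rw [(hζe.pow_eq_one_iff_dvd l).2 hl]
      simp
    · have h1 : ζ ^ l ≠ 1 := fun h => hl ((hζe.pow_eq_one_iff_dvd l).1 h)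
      rw [geom_sum_eq h1, ← pow_mul, mul_comm, pow_mul, hζe.pow_eq_one, one_pow, sub_self,
        zero_div]
  rw [hbij]
  rw [Finset.sum_congr rfl fun k _ => by rw [← pow_mul, add_comm (1 : ZMod p), add_pow]]
  simp only [one_pow, mul_one]
  rw [Finset.sum_comm]
  simp only [mul_pow, ← Finset.sum_mul]
  rw [Finset.sum_congr rfl fun l _ => by rw [hgeo l]]
  simp only [pw, one_mul, eval_mul, eval_C, eval_finsetSum, eval_pow, eval_X, Finset.mul_sum]
  rw [← Finset.sum_filter_ne_zero]
  symm
  rw [← Finset.sum_filter_ne_zero]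
  refine Finset.sum_bij_ne_zero (fun m _ _ => e * m) ?_ ?_ ?_ ?_
  · intro m hm hne
    simp only [mem_filter, mem_range] at hm ⊢
    refine ⟨by nlinarith [hm.1], ?_⟩
    simpa [pow_mul, ha, mul_comm, mul_left_comm, mul_assoc] using hne
  · intro a _ _ b _ _ h
    exact Nat.eq_of_mul_eq_mul_left he h
  · intro l hl hne
    simp only [mem_filter, mem_range] at hl
    by_cases hd : e ∣ l
    · obtain ⟨m, rfl⟩ := hd
      refine ⟨m, ?_, ?_, rfl⟩
      · simp only [mem_filter, mem_range]
        refine ⟨Nat.lt_succ_iff.2 (Nat.le_of_mul_le_mul_left (Nat.lt_succ_iff.1 hl.1) he), ?_⟩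
        simpa [pow_mul, ha, mul_comm, mul_left_comm, mul_assoc] using hne
      · simpa [pow_mul, ha, mul_comm, mul_left_comm, mul_assoc] using hne
    · exact absurd (by simp [hd]) hne
  · intro m _ _
    rw [if_pos (dvd_mul_right e m), pow_mul, ha]
    ring

/-- The slack of the counts is at least `t - 2`: `s = 1` for lower, `s = -1` for upper bounds. -/
theorem slack_false {e t r n₀ : ℕ} (ht : e * t = p - 1) (heo : Odd e) (hr : r + 2 < t) (hrn : r < n₀)
    (hnp : n₀ < p) (s k : ZMod p) (hn₀ : (n₀ : ZMod p) = s * e)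
    (slack : ZMod p → ZMod p → ℕ)
    (hcast : ∀ u ∈ roots t, u ≠ -1 → ∀ w ∈ roots (p := p) t,
      (slack u w : ZMod p) = s * cnt e u w + k)
    (hsum : ∀ u ∈ roots t, u ≠ -1 → ∑ w ∈ roots (p := p) t, slack u w = r) : False := by
  classical
  have hp1 : 0 < p - 1 := Nat.sub_pos_of_lt (Fact.out : p.Prime).one_lt
  have he : 0 < e := Nat.pos_of_ne_zero fun h => by simp [h] at ht; omega
  have htp : t ≤ p - 1 := ht ▸ Nat.le_mul_of_pos_left t he
  obtain ⟨g, hg⟩ := IsCyclic.exists_generator (α := (ZMod p)ˣ)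
  have hgo : orderOf g = p - 1 := by
    rw [orderOf_eq_card_of_forall_mem_zpowers hg, Nat.card_eq_fintype_card, ZMod.card_units]
  have hg' : IsPrimitiveRoot (g : ZMod p) (p - 1) :=
    IsPrimitiveRoot.coe_units_iff.2 (hgo ▸ IsPrimitiveRoot.orderOf g)
  set ω : ZMod p := (g : ZMod p) ^ e with hω
  have hωt : IsPrimitiveRoot ω t := hg'.pow hp1 ht.symm
  have hroots : roots t = (range t).image fun k => ω ^ k := by
    ext w
    simp only [roots, mem_filter, mem_univ, true_and, mem_image, mem_range]
    haveI : NeZero t := ⟨by omega⟩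
    constructor
    · exact fun h => hωt.eq_pow_of_pow_eq_one h
    · rintro ⟨a, -, rfl⟩
      rw [← pow_mul, mul_comm, pow_mul, hωt.pow_eq_one, one_pow]
  have hcard : (roots (p := p) t).card = t := by
    rw [hroots, card_image_of_injOn, card_range]
    exact fun a ha b hb h => hωt.pow_inj (mem_range.1 ha) (mem_range.1 hb) h
  have hzero : ∀ i, 1 ≤ i → i < t → ∑ w ∈ roots (p := p) t, w ^ i = 0 := by
    intro i h1 h2
    rw [hroots, sum_image fun a ha b hb h => hωt.pow_inj (mem_range.1 ha) (mem_range.1 hb) h]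
    simp only [← pow_mul, mul_comm _ i]
    simp only [pow_mul]
    have hne : ω ^ i ≠ 1 := hωt.pow_ne_one_of_pos_of_lt (by omega) h2
    rw [geom_sum_eq hne, ← pow_mul, mul_comm, pow_mul, hωt.pow_eq_one, one_pow, sub_self, zero_div]
  -- the polynomial vanishes at `t - 1` roots of unity
  have hvan : ∀ u ∈ (roots (p := p) t).erase (-1), (el s e (r + 1)).eval u = 0 := by
    intro u hu
    obtain ⟨hu1, hu⟩ := mem_erase.1 hu
    have hut : u ^ t = 1 := (mem_filter.1 hu).2
    let T := Σ w : (roots (p := p) t), Fin (slack u w)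
    have hT : Fintype.card T = r := by
      rw [Fintype.card_sigma]
      simp only [Fintype.card_fin]
      rw [Finset.sum_coe_sort (roots t) (fun w => slack u w), hsum u hu hu1]
    let f : Fin r → ZMod p := fun a => (((Fintype.equivFinOfCardEq hT).symm a).1 : ZMod p)
    rw [eval_el f s e u (r + 1) (by omega) fun i h1 h2 => ?_]
    · simp [MvPolynomial.esymm, powersetCard_eq_empty.2 (show (univ : Finset (Fin r)).card < r + 1 by simp)]
    calc ∑ a, f a ^ i = ∑ q : T, (q.1 : ZMod p) ^ i :=
          Fintype.sum_equiv (Fintype.equivFinOfCardEq hT).symm _ _ fun _ => rfl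
      _ = ∑ w ∈ roots t, (slack u w : ZMod p) * w ^ i := by
          rw [Fintype.sum_sigma, ← Finset.sum_coe_sort (roots t)]
          simp
      _ = ∑ w ∈ roots t, (s * cnt e u w + k) * w ^ i :=
          Finset.sum_congr rfl fun w hw => by rw [hcast u hu hu1 w hw]
      _ = s * ∑ w ∈ roots t, (cnt e u w : ZMod p) * w ^ i := by
          simp only [add_mul, sum_add_distrib, ← mul_sum, hzero i h1 (by omega), mul_zero,
            add_zero, mul_assoc]
      _ = (pw s e i).eval u := by
          have hfib : ∑ w ∈ roots t, (cnt e u w : ZMod p) * w ^ i =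
              ∑ x ∈ univ.filter (fun x : ZMod p => x ^ e = u), ((1 + x) ^ e) ^ i := by
            rw [← Finset.sum_fiberwise_of_maps_to (s := univ.filter fun x : ZMod p => x ^ e = u)
              (g := fun x : ZMod p => (1 + x) ^ e)
              (t := roots t) (fun x hx => ?_)]
            · refine Finset.sum_congr rfl fun w _ => ?_
              rw [Finset.sum_congr rfl fun x hx => by rw [(mem_filter.1 hx).2], sum_const,
                nsmul_eq_mul]
              simp [cnt, filter_filter]
            · simp only [roots, mem_filter, mem_univ, true_and]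
              have hx1 : (1 + x) ≠ 0 := by
                intro h0
                refine hu1 ?_
                rw [← (mem_filter.1 hx).2, show x = -1 by linear_combination h0, heo.neg_one_pow]
              rw [← pow_mul, ht]
              exact ZMod.pow_card_sub_one_eq_one hx1
          rw [hfib, sum_pow e t ht u hut i]
          simp [pw, mul_assoc]
  -- but not at zero
  have h0 : (el s e (r + 1)).eval 0 = ((n₀.choose (r + 1) : ℕ) : ZMod p) := by
    rw [eval_el (fun _ : Fin n₀ => (1 : ZMod p)) s e 0 (r + 1) (by omega) fun i h1 h2 => ?_]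
    · simp [MvPolynomial.esymm]
    · simp [pw, eval_finsetSum, zero_pow_eq, hn₀]
  have hdeg : el s e (r + 1) = 0 := by
    refine eq_zero_of_natDegree_lt_card_of_eval_eq_zero' _ _ hvan ?_
    have := natDegree_el s e (r + 1)
    have := pred_card_le_card_erase (s := roots (p := p) t) (a := (-1 : ZMod p))
    omega
  rw [hdeg, eval_zero] at h0
  have := (ZMod.natCast_eq_zero_iff _ _).1 h0.symm
  exact (Fact.out : p.Prime).coprime_iff_not_dvd.1
    (Nat.Prime.coprime_choose_of_lt Fact.out hnp (by omega)) this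

end Cfsg.Agent.H20.Cyclo
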